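/-
The Mathieu group of degree twenty-three from its order and its element counts.
-/
import Cfsg.Agent.Lib.MathieuCounts.Common
import Cfsg.Agent.Lib.SimpleM23.Eleven
import Cfsg.Agent.Lib.SimpleM23.TwentyThree
import Cfsg.Agent.Lib.Golay.Mathieu

set_option autoImplicit false
set_option linter.style.haveILetI false
set_option linter.unusedSectionVars false

namespace CfsgM23Det

open Cfsg Subgroup CfsgMathieuCounts

theorem isM23_spor : IsM23 ↥Spor.M23 := ⟨CfsgGolay.isSimple_sporM23, CfsgGolay.card_sporM23⟩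

/-- The element counts of the Mathieu group. -/
theorem count_shape {c : ℕ} (hc : 0 < c) {n : ℕ} (h : c = Nat.card {g : ↥Spor.M23 // orderOf g = n}) :
    c = 1 ∨ c = 1854720 ∨ c = 887040 ∨ 253 ∣ c := by
  classical
  haveI := Fintype.ofFinite ↥Spor.M23
  haveI : Fact (Nat.Prime 11) := ⟨by norm_num⟩
  haveI : Fact (Nat.Prime 23) := ⟨by norm_num⟩
  have hM := isM23_spor
  have hP11 : ∀ P : Sylow 11 ↥Spor.M23, Nat.card (P : Subgroup ↥Spor.M23) = 11 :=
    CfsgSimpleM23.card_sylow_prime hM (by decide)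
  have hP23 : ∀ P : Sylow 23 ↥Spor.M23, Nat.card (P : Subgroup ↥Spor.M23) = 23 :=
    CfsgSimpleM23.card_sylow_prime hM (by decide)
  have c11 : ∀ b : ↥Spor.M23, orderOf b = 11 → Nat.card (centralizer ({b} : Set ↥Spor.M23)) = 11 :=
    fun b hb => card_cent hP11 (fun P => (CfsgSimpleM23.eleven hM P).2.2) hb
  have c23 : ∀ b : ↥Spor.M23, orderOf b = 23 → Nat.card (centralizer ({b} : Set ↥Spor.M23)) = 23 :=
    fun b hb => card_cent hP23 (fun P => (CfsgSimpleM23.twenty_three hM P).2.2) hb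
  rcases eq_or_ne n 1 with rfl | h1
  · left
    rw [h]
    refine Nat.card_eq_one_iff_exists.mpr ⟨⟨1, orderOf_one⟩, fun x => Subtype.ext ?_⟩
    exact orderOf_eq_one_iff.mp x.2
  rcases eq_or_ne n 11 with rfl | h11
  · right; left
    rw [h, CfsgM11Det.count_prime hP11, (CfsgSimpleM23.eleven hM default).2.1]
  rcases eq_or_ne n 23 with rfl | h23
  · right; right; left
    rw [h, CfsgM11Det.count_prime hP23, (CfsgSimpleM23.twenty_three hM default).2.1]
  right; right; right
  obtain ⟨a, ha⟩ := exists_prime_orderOf_dvd_card' (G := ↥Spor.M23) 11 (by rw [hM.2]; norm_num)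
  obtain ⟨b, hb⟩ := exists_prime_orderOf_dvd_card' (G := ↥Spor.M23) 23 (by rw [hM.2]; norm_num)
  rw [h]
  exact Nat.Coprime.mul_dvd_of_dvd_of_dvd (by norm_num : Nat.Coprime 23 11)
    (CfsgM11Det.dvd_count hb n fun x hx => not_dvd_cent c23 (hx ▸ h1) (hx ▸ h23))
    (CfsgM11Det.dvd_count ha n fun x hx => not_dvd_cent c11 (hx ▸ h1) (hx ▸ h11))

theorem eleven_count {k : ℕ} (h11 : k % 11 = 1)
    (h : k * 10 = 1 ∨ k * 10 = 1854720 ∨ k * 10 = 887040 ∨ 253 ∣ k * 10) : k = 185472 := by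
  omega

theorem twentyThree_count {k : ℕ} (h23 : k % 23 = 1)
    (h : k * 22 = 1 ∨ k * 22 = 1854720 ∨ k * 22 = 887040 ∨ 253 ∣ k * 22) : k = 40320 := by
  omega

theorem five_count {k : ℕ} (h5 : k % 5 = 1)
    (h : k * 4 = 1 ∨ k * 4 = 1854720 ∨ k * 4 = 887040 ∨ 253 ∣ k * 4) : 253 ∣ k := by
  omega

theorem small_check : ∀ q i : ℕ, q ^ i ∈ Nat.divisors 8064 → q.Prime → 1 ≤ i → ¬ 23 ∣ q ^ i - 1 := by
  intro q i h hq hi
  have key : ∀ d ∈ Nat.divisors 8064, 23 ∣ d - 1 → d = 1 ∨ 6 ∣ d ∨ 14 ∣ d ∨ 21 ∣ d := by decide +kernel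
  intro hr
  have two : ∀ a b : ℕ, a.Prime → b.Prime → a ≠ b → ¬ (a * b ∣ q ^ i) := fun a b ha hb hab hd =>
    hab (((Nat.prime_dvd_prime_iff_eq ha hq).1 (ha.dvd_of_dvd_pow ((dvd_mul_right a b).trans hd))).trans
      ((Nat.prime_dvd_prime_iff_eq hb hq).1 (hb.dvd_of_dvd_pow ((dvd_mul_left b a).trans hd))).symm)
  rcases key _ h hr with e | e | e | e
  · exact absurd e (Nat.one_lt_pow (by omega) hq.one_lt).ne'
  · exact two 2 3 (by norm_num) (by norm_num) (by norm_num) e
  · exact two 2 7 (by norm_num) (by norm_num) (by norm_num) e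
  · exact two 3 7 (by norm_num) (by norm_num) (by norm_num) e

variable {G : Type*} [Group G] [Finite G]

/-- Order and element counts force simplicity. -/
theorem isM23_of_counts (hcard : Nat.card G = Nat.card ↥Spor.M23)
    (hnse : {c : ℕ | 0 < c ∧ ∃ n : ℕ, c = Nat.card {g : G // orderOf g = n}} =
      {c : ℕ | 0 < c ∧ ∃ n : ℕ, c = Nat.card {g : ↥Spor.M23 // orderOf g = n}}) : IsM23 G := by
  classical
  rw [CfsgGolay.card_sporM23] at hcard
  haveI : Fact (Nat.Prime 11) := ⟨by norm_num⟩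
  haveI : Fact (Nat.Prime 23) := ⟨by norm_num⟩
  haveI : Fact (Nat.Prime 5) := ⟨by norm_num⟩
  have hP11 : ∀ P : Sylow 11 G, Nat.card (P : Subgroup G) = 11 :=
    sylow_card (by rw [hcard]; norm_num) (by rw [hcard]; norm_num)
  have hP23 : ∀ P : Sylow 23 G, Nat.card (P : Subgroup G) = 23 :=
    sylow_card (by rw [hcard]; norm_num) (by rw [hcard]; norm_num)
  have hP5 : ∀ P : Sylow 5 G, Nat.card (P : Subgroup G) = 5 :=
    sylow_card (by rw [hcard]; norm_num) (by rw [hcard]; norm_num)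
  have shape : ∀ p : ℕ, [Fact p.Prime] → (∀ P : Sylow p G, Nat.card (P : Subgroup G) = p) →
      Nat.card (Sylow p G) * (p - 1) = 1 ∨ Nat.card (Sylow p G) * (p - 1) = 1854720 ∨
        Nat.card (Sylow p G) * (p - 1) = 887040 ∨ 253 ∣ Nat.card (Sylow p G) * (p - 1) := by
    intro p hp hc
    rw [← CfsgM11Det.count_prime hc]
    have hpos : 0 < Nat.card {g : G // orderOf g = p} := by
      rw [CfsgM11Det.count_prime hc]
      exact Nat.mul_pos Nat.card_pos (Nat.sub_pos_of_lt hp.out.one_lt)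
    obtain ⟨-, m, hm⟩ := (Set.ext_iff.mp hnse _).mp ⟨hpos, p, rfl⟩
    exact count_shape hpos hm
  have hn11 : Nat.card (Sylow 11 G) = 185472 := eleven_count (card_sylow_modEq_one 11 G) (shape 11 hP11)
  have hn23 : Nat.card (Sylow 23 G) = 40320 := twentyThree_count (card_sylow_modEq_one 23 G) (shape 23 hP23)
  have hn5 : 253 ∣ Nat.card (Sylow 5 G) := five_count (card_sylow_modEq_one 5 G) (shape 5 hP5)
  have hcent11 : ∀ b : G, orderOf b = 11 → Nat.card (centralizer ({b} : Set G)) = 11 := by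
    intro b hb
    have hN := card_normalizer_mul hP11 hb
    rw [hn11, hcard] at hN
    have hd : Nat.card (centralizer ({b} : Set G)) ∣ 55 :=
      (card_dvd_of_le (cent_le_normalizer b)).trans (by omega : Nat.card _ = 55).dvd
    have h11 : 11 ∣ Nat.card (centralizer ({b} : Set G)) :=
      hb ▸ Subgroup.orderOf_dvd_natCard _ (mem_centralizer_singleton_iff.mpr rfl)
    have h5 : ¬ 5 ∣ Nat.card (centralizer ({b} : Set G)) := fun h5 => by
      obtain ⟨q, hq⟩ := exists_prime_orderOf_dvd_card' 5 h5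
      have hq' : orderOf (q : G) = 5 := by rw [Subgroup.orderOf_coe, hq]
      have h : 11 ∣ Nat.card (normalizer ((zpowers (q : G) : Subgroup G) : Set G)) :=
        hb ▸ Subgroup.orderOf_dvd_natCard _ (cent_le_normalizer (q : G)
          (mem_centralizer_singleton_iff.mpr (mem_centralizer_singleton_iff.mp q.2).symm))
      have h2 := Nat.mul_dvd_mul h ((show 11 ∣ 253 by norm_num).trans hn5)
      rw [card_normalizer_mul hP5 hq', hcard] at h2
      norm_num at h2
    have key : ∀ c ∈ Nat.divisors 55, 11 ∣ c → ¬ 5 ∣ c → c = 11 := by decide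
    exact key _ (Nat.mem_divisors.2 ⟨hd, by norm_num⟩) h11 h5
  obtain ⟨b, hb⟩ := exists_prime_orderOf_dvd_card' (G := G) 23 (by rw [hcard]; norm_num)
  have hcent : Nat.card (centralizer ({b} : Set G)) = 23 := by
    have hN := card_normalizer_mul hP23 hb
    rw [hn23, hcard] at hN
    have hd : Nat.card (centralizer ({b} : Set G)) ∣ 253 :=
      (card_dvd_of_le (cent_le_normalizer b)).trans (by omega : Nat.card _ = 253).dvd
    have h23 : 23 ∣ Nat.card (centralizer ({b} : Set G)) :=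
      hb ▸ Subgroup.orderOf_dvd_natCard _ (mem_centralizer_singleton_iff.mpr rfl)
    have h11 : ¬ 11 ∣ Nat.card (centralizer ({b} : Set G)) :=
      fun h11 => not_dvd_cent hcent11 (g := b) (by rw [hb]; norm_num) (by rw [hb]; norm_num) h11
    have key : ∀ c ∈ Nat.divisors 253, 23 ∣ c → ¬ 11 ∣ c → c = 23 := by decide +kernel
    exact key _ (Nat.mem_divisors.2 ⟨hd, by norm_num⟩) h23 h11
  haveI : Nontrivial G := Finite.one_lt_card_iff_nontrivial.mp (by rw [hcard]; norm_num)
  refine ⟨{ eq_bot_or_eq_top_of_normal := fun N hn => ?_ }, hcard⟩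
  haveI := hn
  have hd : Nat.card N ∣ 10200960 := hcard ▸ Subgroup.card_subgroup_dvd_card N
  have htop : 11 ∣ Nat.card N → N = ⊤ := fun h11 => by
    have h1 := hn11 ▸ sylow_count_dvd hP11 h11
    have h2 := hn23 ▸ sylow_count_dvd hP23 ((show 23 ∣ 185472 by norm_num).trans h1)
    have hl := Nat.lcm_dvd (Nat.lcm_dvd h1 h2) h11
    refine eq_top_of_card_eq _ (hcard ▸ Nat.dvd_antisymm hd ?_)
    exact (show 10200960 ∣ Nat.lcm (Nat.lcm 185472 40320) 11 by norm_num).trans hl
  by_cases h : 11 ∣ Nat.card N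
  · exact Or.inr (htop h)
  left
  have h5 : ¬ 5 ∣ Nat.card N := fun h5 =>
    h ((show 11 ∣ 253 by norm_num).trans (hn5.trans (sylow_count_dvd hP5 h5)))
  have h23 : ¬ 23 ∣ Nat.card N := fun h23 =>
    h5 ((show 5 ∣ 40320 by norm_num).trans (hn23 ▸ sylow_count_dvd hP23 h23))
  have h8064 : Nat.card N ∣ 8064 := by
    have hc : Nat.Coprime (Nat.card N) (5 * 11 * 23) :=
      Nat.Coprime.mul_right (Nat.Coprime.mul_right
        (((show Nat.Prime 5 by norm_num).coprime_iff_not_dvd.mpr h5).symm)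
        (((show Nat.Prime 11 by norm_num).coprime_iff_not_dvd.mpr h).symm))
        (((show Nat.Prime 23 by norm_num).coprime_iff_not_dvd.mpr h23).symm)
    exact hc.dvd_of_dvd_mul_left (show Nat.card N ∣ 5 * 11 * 23 * 8064 by norm_num; exact hd)
  exact eq_bot_of_no_room (by rw [hcard]; norm_num) hb hcent h23 fun q i hq hi hqd =>
    small_check q i (Nat.mem_divisors.2 ⟨hqd.trans h8064, by norm_num⟩) hq hi

end CfsgM23Det
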